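import Cfsg.Agent.Solvable.PGroupBasic
import Mathlib.GroupTheory.Commutator.Basic
import Mathlib.GroupTheory.SpecificGroups.Cyclic
import Mathlib.LinearAlgebra.Matrix.ToLin

/-!
Invariant functionals on the derived group of a `p`-group and the commutator forms they define.
-/

set_option autoImplicit false

namespace CfsgLib.Breadth

open Subgroup
open scoped commutatorElement

variable {G : Type*} [Group G] {p : ℕ} [hp : Fact p.Prime]

/-- A commutator as a member of the derived group. -/
def cm (a b : G) : commutator G :=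
  ⟨⁅a, b⁆, Subgroup.commutator_mem_commutator (Subgroup.mem_top a) (Subgroup.mem_top b)⟩

/-- The homomorphisms from the derived group to `ZMod p` that are invariant in `G`. -/
def invFun (G : Type*) [Group G] (p : ℕ) [Fact p.Prime] : Submodule (ZMod p) (commutator G → ZMod p) where
  carrier := {w | (∀ x y, w (x * y) = w x + w y) ∧ ∀ (g : G) (c : commutator G),
    w ⟨g * c * g⁻¹, (inferInstance : (commutator G).Normal).conj_mem c c.2 g⟩ = w c}
  zero_mem' := ⟨fun x y => (add_zero 0).symm, fun g c => rfl⟩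
  add_mem' := fun {v w} hv hw => ⟨fun x y => by simp only [Pi.add_apply, hv.1, hw.1]; ring,
    fun g c => by simp only [Pi.add_apply, hv.2, hw.2]⟩
  smul_mem' := fun r w hw => ⟨fun x y => by simp only [Pi.smul_apply, hw.1, smul_add],
    fun g c => by simp only [Pi.smul_apply, hw.2]⟩

variable {w : commutator G → ZMod p}

theorem inv_one (hw : w ∈ invFun G p) : w 1 = 0 := by
  have h := hw.1 1 1
  rw [one_mul] at h
  exact left_eq_add.1 h

theorem inv_inv' (hw : w ∈ invFun G p) (x : commutator G) : w x⁻¹ = - w x := by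
  refine eq_neg_of_add_eq_zero_left ?_
  rw [← hw.1, inv_mul_cancel, inv_one hw]

/-- The form of a functional. -/
def form (w : commutator G → ZMod p) (a b : G) : ZMod p := w (cm a b)

theorem form_mul_left (hw : w ∈ invFun G p) (a b c : G) : form w (a * b) c = form w b c + form w a c := by
  have h : cm (a * b) c = (⟨a * cm b c * a⁻¹,
      (inferInstance : (commutator G).Normal).conj_mem _ (cm b c).2 a⟩ : commutator G) * cm a c := by
    refine Subtype.ext ?_
    show ⁅a * b, c⁆ = a * ⁅b, c⁆ * a⁻¹ * ⁅a, c⁆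
    simp only [commutatorElement_def]; group
  unfold form
  rw [h, hw.1, hw.2]

theorem form_swap (hw : w ∈ invFun G p) (a b : G) : form w b a = - form w a b := by
  unfold form
  rw [← inv_inv' hw]
  exact congrArg w (Subtype.ext (commutatorElement_inv a b).symm)

theorem form_mul_right (hw : w ∈ invFun G p) (a b c : G) : form w a (b * c) = form w a b + form w a c := by
  rw [form_swap hw (b * c), form_mul_left hw, form_swap hw a c, form_swap hw a b]; ring

theorem form_self (hw : w ∈ invFun G p) (a : G) : form w a a = 0 := by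
  unfold form
  rw [show cm a a = 1 from Subtype.ext (commutatorElement_self a), inv_one hw]

theorem form_one_right (hw : w ∈ invFun G p) (a : G) : form w a 1 = 0 := by
  have h := form_mul_right hw a 1 1
  rw [one_mul] at h
  exact left_eq_add.1 h

theorem form_pow_right (hw : w ∈ invFun G p) (a b : G) :
    ∀ k : ℕ, form w a (b ^ k) = (k : ZMod p) * form w a b
  | 0 => by rw [pow_zero, form_one_right hw, Nat.cast_zero, zero_mul]
  | k + 1 => by rw [pow_succ, form_mul_right hw, form_pow_right hw a b k, Nat.cast_succ]; ring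

theorem form_inv_right (hw : w ∈ invFun G p) (a b : G) : form w a b⁻¹ = - form w a b := by
  refine eq_neg_of_add_eq_zero_left ?_
  rw [← form_mul_right hw, inv_mul_cancel, form_one_right hw]

/-- A functional vanishing on all commutators is zero. -/
theorem eq_zero_of_form (hw : w ∈ invFun G p) (h : ∀ a b, form w a b = 0) : w = 0 := by
  funext c
  obtain ⟨c, hc⟩ := c
  have hc' : c ∈ Subgroup.closure (commutatorSet G) := by rwa [← commutator_eq_closure]
  refine Subgroup.closure_induction (p := fun x _ => ∀ hx : x ∈ commutator G, w ⟨x, hx⟩ = 0)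
    ?_ ?_ ?_ ?_ hc' hc
  · rintro _ ⟨a, b, rfl⟩ hx; exact h a b
  · intro hx; exact inv_one hw
  · intro x y hx hy hxw hyw hxy
    have h1 : x ∈ commutator G := by rwa [commutator_eq_closure]
    have h2 : y ∈ commutator G := by rwa [commutator_eq_closure]
    rw [show (⟨x * y, hxy⟩ : commutator G) = ⟨x, h1⟩ * ⟨y, h2⟩ from rfl, hw.1, hxw h1, hyw h2]
    exact add_zero 0
  · intro x hx hxw hxi
    have h1 : x ∈ commutator G := by rwa [commutator_eq_closure]
    rw [show (⟨x⁻¹, hxi⟩ : commutator G) = ⟨x, h1⟩⁻¹ from rfl, inv_inv' hw, hxw h1]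
    exact neg_zero

/-- A normal subgroup properly inside the derived group lies in the kernel of a non-zero functional. -/
theorem exists_invFun [Finite G] (hG : IsPGroup p G) {X : Subgroup G} [hX : X.Normal]
    (hle : X ≤ commutator G) (hne : X ≠ commutator G) :
    ∃ w ∈ invFun G p, w ≠ 0 ∧ ∀ c : commutator G, (c : G) ∈ X → w c = 0 := by
  classical
  obtain ⟨N, hXN, hN⟩ := Finite.exists_le_maximal (p := fun N : Subgroup G => N.Normal ∧ N < commutator G)
    (a := X) ⟨hX, lt_of_le_of_ne hle hne⟩
  haveI := hN.1.1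
  have hlt : N < commutator G := hN.1.2
  let π := QuotientGroup.mk' N
  have hQ : IsPGroup p (G ⧸ N) := hG.to_quotient N
  haveI : Group.IsNilpotent (G ⧸ N) := hQ.isNilpotent
  haveI hKn : ((commutator G).map π).Normal :=
    Subgroup.Normal.map inferInstance π (QuotientGroup.mk'_surjective N)
  have hK0 : (commutator G).map π ≠ ⊥ := fun h => hlt.not_ge (by
    have h' := (Subgroup.map_eq_bot_iff _).1 h
    rwa [QuotientGroup.ker_mk'] at h')
  have hI := CfsgLib.PGroupBasic.inf_center_ne_bot ((commutator G).map π) hK0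
  obtain ⟨z, hz⟩ : ∃ z : ↥((commutator G).map π ⊓ center (G ⧸ N)), orderOf z = p := by
    refine exists_prime_orderOf_dvd_card' p ?_
    obtain ⟨k, hk⟩ := (hQ.to_subgroup _).exists_card_eq
    rw [hk]
    refine dvd_pow_self p fun h => hI ?_
    rw [h, pow_zero] at hk
    exact Subgroup.card_eq_one.1 hk
  obtain ⟨hzK, hzZ⟩ := Subgroup.mem_inf.1 z.2
  have hord : orderOf (z : G ⧸ N) = p := (Subgroup.orderOf_coe z).trans hz
  have hZn : (zpowers (z : G ⧸ N)).Normal := ⟨fun x hx g => by
    have : x ∈ center (G ⧸ N) := Subgroup.zpowers_le.2 hzZ hx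
    rwa [Subgroup.mem_center_iff.1 this g, mul_inv_cancel_right]⟩
  have hmax : (zpowers (z : G ⧸ N)).comap π = commutator G := by
    have hsub : (zpowers (z : G ⧸ N)).comap π ≤ commutator G := by
      intro g hg
      obtain ⟨c, hc, hcg⟩ := Subgroup.zpowers_le.2 hzK hg
      have h := mul_mem hc (hlt.le (QuotientGroup.eq.1 hcg))
      rwa [mul_inv_cancel_left] at h
    by_contra hne'
    have hNle : N ≤ (zpowers (z : G ⧸ N)).comap π := fun g hg =>
      Subgroup.mem_comap.2 (by rw [show π g = 1 from (QuotientGroup.eq_one_iff g).2 hg]; exact one_mem _)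
    have h2 := hN.2 ⟨hZn.comap π, lt_of_le_of_ne hsub hne'⟩ hNle
    obtain ⟨g, hg⟩ := QuotientGroup.mk'_surjective N (z : G ⧸ N)
    have hgN : g ∈ N := h2 (Subgroup.mem_comap.2 (by rw [hg]; exact mem_zpowers _))
    have h1 : (z : G ⧸ N) = 1 := hg ▸ (QuotientGroup.eq_one_iff g).2 hgN
    rw [h1, orderOf_one] at hord
    exact hp.out.ne_one hord.symm
  have hmem : ∀ c : commutator G, π c ∈ zpowers (z : G ⧸ N) := fun c =>
    Subgroup.mem_comap.1 (hmax.ge c.2)
  have hcard : Nat.card (zpowers (z : G ⧸ N)) = p := by rw [Nat.card_zpowers, hord]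
  let e : zpowers (z : G ⧸ N) ≃* Multiplicative (ZMod p) :=
    mulEquivOfPrimeCardEq hcard ((Nat.card_congr Multiplicative.toAdd).trans (Nat.card_zmod p))
  refine ⟨fun c => Multiplicative.toAdd (e ⟨π c, hmem c⟩), ⟨fun x y => ?_, fun g c => ?_⟩, ?_, ?_⟩
  · rw [← toAdd_mul, ← map_mul]
    rfl
  · refine congrArg (fun x => Multiplicative.toAdd (e x)) (Subtype.ext ?_)
    show π (g * c * g⁻¹) = π c
    have hc : π (c : G) ∈ center (G ⧸ N) := Subgroup.zpowers_le.2 hzZ (hmem c)
    rw [map_mul, map_mul, map_inv, Subgroup.mem_center_iff.1 hc (π g), mul_inv_cancel_right]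
  · intro h
    obtain ⟨g, hg⟩ := QuotientGroup.mk'_surjective N (z : G ⧸ N)
    have hgc : g ∈ commutator G := hmax ▸ Subgroup.mem_comap.2 (by rw [hg]; exact mem_zpowers _)
    have h0 : e ⟨π g, hmem ⟨g, hgc⟩⟩ = 1 := congrFun h ⟨g, hgc⟩
    have h1 : (z : G ⧸ N) = 1 := by
      rw [← hg]; exact congrArg Subtype.val (e.map_eq_one_iff.1 h0)
    rw [h1, orderOf_one] at hord
    exact hp.out.ne_one hord.symm
  · intro c hc
    show Multiplicative.toAdd (e ⟨π c, hmem c⟩) = 0
    rw [show (⟨π c, hmem c⟩ : zpowers (z : G ⧸ N)) = 1 from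
      Subtype.ext ((QuotientGroup.eq_one_iff (c : G)).2 (hXN hc)), map_one, toAdd_one]

/-- A normal subgroup whose commutators are annihilated by no functional has the full derived group. -/
theorem commutator_eq_of_form [Finite G] (hG : IsPGroup p G) (M : Subgroup G) [M.Normal]
    (h : ∀ w ∈ invFun G p, (∀ a ∈ M, ∀ b ∈ M, form w a b = 0) → w = 0) : ⁅M, M⁆ = commutator G := by
  by_contra hne
  have hle : ⁅M, M⁆ ≤ commutator G := Subgroup.commutator_mono le_top le_top
  obtain ⟨w, hw, hw0, hwX⟩ := exists_invFun hG hle hne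
  exact hw0 (h w hw fun a ha b hb => hwX _ (Subgroup.commutator_mem_commutator ha hb))

end CfsgLib.Breadth
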