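import Mathlib.FieldTheory.ChevalleyWarning
import Mathlib.LinearAlgebra.Matrix.ToLinearEquiv
import Mathlib.LinearAlgebra.Matrix.Determinant.Basic

/-!
A linear family of matrices `A x` with `A x *ᵥ x = 0` has a member without a fixed non-zero vector
outside the origin.
-/

set_option autoImplicit false

namespace CfsgLib.Breadth

open Finset Matrix MvPolynomial

variable {F : Type*} [Field F] [Fintype F]

/-- Products of fewer linear functionals than there are variables sum to zero. -/
theorem sum_prod_linear {n : ℕ} {ι : Type*} (t : Finset ι) (l : ι → ((Fin n → F) →ₗ[F] F))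
    (ht : t.card < n) : ∑ x : Fin n → F, ∏ i ∈ t, l i x = 0 := by
  classical
  set f : MvPolynomial (Fin n) F := ∏ i ∈ t, ∑ k, MvPolynomial.C (l i (Pi.single k 1)) * X k with hf
  have hev : ∀ x, eval x f = ∏ i ∈ t, l i x := fun x => by
    rw [hf, eval_prod]
    refine prod_congr rfl fun i _ => ?_
    rw [eval_sum]
    conv_rhs => rw [← Finset.univ_sum_single x, map_sum]
    refine sum_congr rfl fun k _ => ?_
    rw [eval_mul, eval_C, eval_X, show (Pi.single k (x k) : Fin n → F) = x k • Pi.single k 1 by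
      rw [← Pi.single_smul, smul_eq_mul, mul_one], map_smul, smul_eq_mul, mul_comm]
  simp only [← hev]
  refine MvPolynomial.sum_eval_eq_zero f (lt_of_le_of_lt ?_ (lt_of_lt_of_le ht ?_))
  · refine (totalDegree_finsetProd t _).trans ?_
    have : ∀ i ∈ t, (∑ k, MvPolynomial.C (l i (Pi.single k 1)) * X k :
        MvPolynomial (Fin n) F).totalDegree ≤ 1 := fun i _ =>
      totalDegree_finsetSum_le fun k _ => (totalDegree_mul _ _).trans (by simp)
    exact (sum_le_sum this).trans (by simp)
  · rw [Fintype.card_fin]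
    exact Nat.le_mul_of_pos_left _ (by have := Fintype.one_lt_card (α := F); omega)

/-- Not every non-zero parameter has a fixed vector. -/
theorem exists_no_fixed {n : ℕ} (hn : 0 < n) (A : (Fin n → F) →ₗ[F] Matrix (Fin n) (Fin n) F)
    (hker : ∀ x, A x *ᵥ x = 0) : ∃ x, x ≠ 0 ∧ ∀ y, A x *ᵥ y = y → y = 0 := by
  classical
  by_contra hcon
  push Not at hcon
  have : Nonempty (Fin n) := ⟨⟨0, hn⟩⟩
  have hA : ∀ x, (A x).det = 0 := fun x => by
    by_cases hx : x = 0
    · rw [hx, map_zero]; exact Matrix.det_zero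
    · exact Matrix.exists_mulVec_eq_zero_iff.1 ⟨x, hx, hker x⟩
  have hA1 : ∀ x, x ≠ 0 → (A x - 1).det = 0 := fun x hx => by
    obtain ⟨y, hy, hy0⟩ := hcon x hx
    exact Matrix.exists_mulVec_eq_zero_iff.1 ⟨y, hy0, by rw [sub_mulVec, one_mulVec, hy, sub_self]⟩
  have hS : ∑ x : Fin n → F, (A x - 1).det = (A 0 - 1).det :=
    Finset.sum_eq_single 0 (fun x _ hx => hA1 x hx) (fun h => absurd (mem_univ _) h)
  let c : Equiv.Perm (Fin n) → Fin n → F := fun σ i => (-1 : Matrix (Fin n) (Fin n) F) (σ i) i
  let a : Equiv.Perm (Fin n) → Fin n → ((Fin n → F) →ₗ[F] F) := fun σ i =>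
    { toFun := fun x => A x (σ i) i
      map_add' := fun x y => by simp
      map_smul' := fun r x => by simp }
  have hexp : ∀ x, (A x - 1).det = ∑ σ : Equiv.Perm (Fin n), ((Equiv.Perm.sign σ : ℤ) : F) *
      ∑ t ∈ (univ : Finset (Fin n)).powerset, (∏ i ∈ t, a σ i x) * ∏ i ∈ univ \ t, c σ i := fun x => by
    rw [sub_eq_add_neg, Matrix.det_apply']
    refine sum_congr rfl fun σ _ => ?_
    congr 1
    exact Finset.prod_add (fun i => a σ i x) (c σ) univ
  have hzero : ∑ x : Fin n → F, (A x - 1).det = ∑ x : Fin n → F, (A x).det := by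
    simp only [hexp, Matrix.det_apply']
    rw [Finset.sum_comm]
    conv_rhs => rw [Finset.sum_comm]
    refine sum_congr rfl fun σ _ => ?_
    rw [← mul_sum, ← mul_sum, Finset.sum_comm]
    congr 1
    rw [Finset.sum_eq_single univ]
    · refine sum_congr rfl fun x _ => ?_
      rw [Finset.sdiff_self, prod_empty, mul_one]
      rfl
    · intro t _ ht
      rw [← sum_mul, sum_prod_linear t (a σ) (by
        have := Finset.card_lt_card (t.ssubset_univ_iff.2 ht)
        simpa using this), zero_mul]
    · intro h; exact absurd (mem_powerset.2 (Finset.Subset.refl _)) h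
  rw [hS, map_zero, zero_sub, Matrix.det_neg, Matrix.det_one, mul_one,
    Finset.sum_eq_zero (fun x _ => hA x)] at hzero
  exact pow_ne_zero _ (neg_ne_zero.2 one_ne_zero) hzero

end CfsgLib.Breadth
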