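import Cfsg.Agent.Breadth.Func
import Cfsg.Agent.Breadth.Singular

/-!
Vaughan-Lee's bound on the derived group of a `p`-group of given breadth.

The induction rests on an alternative for a maximal subgroup `U` and the normal maximal subgroups
`M ≠ U`: either some `M` has the same derived group as `G`, or some `M` contains the centralisers of
all its elements outside `U`.
-/

set_option autoImplicit false
set_option linter.style.haveILetI false
set_option linter.unusedSectionVars false

namespace CfsgLib.Breadth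

open Subgroup Matrix
open scoped commutatorElement

variable {G : Type*} [Group G] {p : ℕ} [hp : Fact p.Prime]

/-- Homomorphisms to `ZMod p` vanishing at `v`. -/
def homAt (p : ℕ) (v : G) : Submodule (ZMod p) (G → ZMod p) where
  carrier := {χ | (∀ x y, χ (x * y) = χ x + χ y) ∧ χ v = 0}
  zero_mem' := ⟨fun x y => (add_zero 0).symm, rfl⟩
  add_mem' := fun {a b} ha hb => ⟨fun x y => by simp only [Pi.add_apply, ha.1, hb.1]; ring,
    by simp only [Pi.add_apply, ha.2, hb.2, add_zero]⟩
  smul_mem' := fun r a ha => ⟨fun x y => by simp only [Pi.smul_apply, ha.1, smul_add],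
    by simp only [Pi.smul_apply, ha.2, smul_zero]⟩

/-- An additive function as a homomorphism. -/
def toHom (χ : G → ZMod p) (h : ∀ x y, χ (x * y) = χ x + χ y) : G →* Multiplicative (ZMod p) :=
  MonoidHom.mk' (fun g => Multiplicative.ofAdd (χ g)) (fun x y => by rw [h, ofAdd_add])

theorem mem_ker_toHom {χ : G → ZMod p} {h : ∀ x y, χ (x * y) = χ x + χ y} {g : G} :
    g ∈ (toHom χ h).ker ↔ χ g = 0 := by
  rw [MonoidHom.mem_ker]
  exact ofAdd_eq_one

theorem index_ker_toHom {χ : G → ZMod p} {h : ∀ x y, χ (x * y) = χ x + χ y} {g : G} (hg : χ g ≠ 0) :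
    (toHom χ h).ker.index = p := by
  haveI : Fact (Nat.card (Multiplicative (ZMod p))).Prime :=
    ⟨by rw [Nat.card_congr Multiplicative.toAdd, Nat.card_zmod]; exact hp.out⟩
  rw [Subgroup.index_ker]
  rcases (toHom χ h).range.eq_bot_or_eq_top_of_prime_card with hb | ht
  · exfalso
    have : toHom χ h g ∈ (toHom χ h).range := ⟨g, rfl⟩
    rw [hb, Subgroup.mem_bot] at this
    exact hg (ofAdd_eq_one.1 this)
  · rw [ht, Subgroup.card_top, Nat.card_congr Multiplicative.toAdd, Nat.card_zmod]

theorem add_one' {χ : G → ZMod p} (h : ∀ x y, χ (x * y) = χ x + χ y) : χ 1 = 0 := by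
  have := h 1 1
  rw [one_mul] at this
  exact left_eq_add.1 this

theorem add_pow' {χ : G → ZMod p} (h : ∀ x y, χ (x * y) = χ x + χ y) (g : G) :
    ∀ k : ℕ, χ (g ^ k) = (k : ZMod p) * χ g
  | 0 => by rw [pow_zero, add_one' h, Nat.cast_zero, zero_mul]
  | k + 1 => by rw [pow_succ, h, add_pow' h g k, Nat.cast_succ]; ring

theorem add_inv' {χ : G → ZMod p} (h : ∀ x y, χ (x * y) = χ x + χ y) (g : G) : χ g⁻¹ = - χ g := by
  refine eq_neg_of_add_eq_zero_left ?_
  rw [← h, inv_mul_cancel, add_one' h]

/-- The form of two shifted elements. -/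
theorem form_shift {w : commutator G → ZMod p} (hw : w ∈ invFun G p) (a b v : G) (k l : ℕ) :
    form w (a * (v ^ k)⁻¹) (b * (v ^ l)⁻¹) =
      form w a b - (l : ZMod p) * form w a v - (k : ZMod p) * form w v b := by
  have h1 : ∀ c, form w (v ^ k)⁻¹ c = - ((k : ZMod p) * form w v c) := fun c => by
    rw [form_swap hw c, form_inv_right hw, form_pow_right hw, form_swap hw v c]; ring
  rw [form_mul_left hw, h1, form_mul_right hw, form_mul_right hw a, form_inv_right hw v,
    form_inv_right hw a, form_pow_right hw v v, form_pow_right hw a v, form_self hw]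
  ring

section Setting

variable {U : Subgroup G} {v : G} {χ₀ : G → ZMod p}
  (hχ : ∀ x y, χ₀ (x * y) = χ₀ x + χ₀ y) (hU : ∀ g, g ∈ U ↔ χ₀ g = 0) (hv : χ₀ v = 1)

include hχ hU hv

/-- Splitting off a power of `v`. -/
theorem split (g : G) : g * (v ^ (χ₀ g).val)⁻¹ ∈ U := by
  rw [hU, hχ, add_inv' hχ, add_pow' hχ, hv, mul_one, ZMod.natCast_zmod_val, add_neg_cancel]

/-- The form on all of `G` in terms of `U` and `v`. -/
theorem form_split {w : commutator G → ZMod p} (hw : w ∈ invFun G p) (a b : G) :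
    form w a b = form w (a * (v ^ (χ₀ a).val)⁻¹) (b * (v ^ (χ₀ b).val)⁻¹)
      + χ₀ b * form w a v + χ₀ a * form w v b := by
  rw [form_shift hw, ZMod.natCast_zmod_val, ZMod.natCast_zmod_val]
  ring

/-- The first case: a functional kills the commutators of `U`. -/
theorem case_central {w : commutator G → ZMod p} (hw : w ∈ invFun G p) (hw0 : w ≠ 0)
    (hwU : ∀ a ∈ U, ∀ b ∈ U, form w a b = 0) :
    ∃ M : Subgroup G, M.Normal ∧ M.index = p ∧ v ∈ M ∧
      ∀ x ∈ M, x ∉ U → Subgroup.centralizer ({x} : Set G) ≤ M := by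
  have hform : ∀ a b, form w a b = χ₀ b * form w a v + χ₀ a * form w v b := fun a b => by
    rw [form_split hχ hU hv hw a b, hwU _ (split hχ hU hv a) _ (split hχ hU hv b), zero_add]
  obtain ⟨g₀, hg₀⟩ : ∃ g, form w v g ≠ 0 := by
    by_contra h
    push Not at h
    exact hw0 (eq_zero_of_form hw fun a b => by
      rw [hform a b, h b, form_swap hw v a, h a, neg_zero, mul_zero, mul_zero, add_zero])
  refine ⟨(toHom (fun g => form w v g) (fun x y => form_mul_right hw v x y)).ker, inferInstance,
    index_ker_toHom hg₀, mem_ker_toHom.2 (form_self hw v), fun x hx hxU g hg => mem_ker_toHom.2 ?_⟩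
  have hx' : form w v x = 0 := mem_ker_toHom.1 hx
  have hc : form w x g = 0 := by
    have h1 : cm x g = 1 := Subtype.ext (commutatorElement_eq_one_iff_mul_comm.2
      ((Subgroup.mem_centralizer_singleton_iff.1 hg).symm))
    unfold form
    rw [h1, inv_one hw]
  rw [hform x g, form_swap hw v x, hx', neg_zero, mul_zero, zero_add] at hc
  exact (mul_eq_zero.1 hc).resolve_left fun h => hxU ((hU x).2 h)

/-- The second case: no functional kills the commutators of `U`. -/
theorem case_spanning [Finite G] (hG : IsPGroup p G) (hab : commutator G ≠ ⊥)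
    (hinj : ∀ w ∈ invFun G p, (∀ a ∈ U, ∀ b ∈ U, form w a b = 0) → w = 0) :
    ∃ M : Subgroup G, M.Normal ∧ M.index = p ∧ (∃ x ∈ M, x ∉ U) ∧ ⁅M, M⁆ = commutator G := by
  classical
  haveI : Fintype G := Fintype.ofFinite G
  let D := invFun G p
  let S := homAt p v
  let T : D →ₗ[ZMod p] (↥U → ↥U → ZMod p) :=
    { toFun := fun w a b => form w.1 a b
      map_add' := fun w w' => rfl
      map_smul' := fun r w => rfl }
  have hTinj : LinearMap.ker T = ⊥ := by
    refine LinearMap.ker_eq_bot'.2 fun w hw => Subtype.ext ?_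
    exact hinj w.1 w.2 fun a ha b hb => congrFun (congrFun hw ⟨a, ha⟩) ⟨b, hb⟩
  obtain ⟨π, hπ⟩ := T.exists_leftInverse_of_injective hTinj
  let Lv : D →ₗ[ZMod p] S :=
    { toFun := fun w => ⟨fun g => form w.1 v g, fun x y => form_mul_right w.2 v x y, form_self w.2 v⟩
      map_add' := fun w w' => rfl
      map_smul' := fun r w => rfl }
  let wedge : S →ₗ[ZMod p] S →ₗ[ZMod p] (↥U → ↥U → ZMod p) :=
    LinearMap.mk₂ (ZMod p) (fun φ L a b => φ.1 a * L.1 b - φ.1 b * L.1 a)
      (fun φ φ' L => by funext a b; simp only [Submodule.coe_add, Pi.add_apply]; ring)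
      (fun r φ L => by funext a b; simp only [Submodule.coe_smul, Pi.smul_apply, smul_eq_mul]; ring)
      (fun φ L L' => by funext a b; simp only [Submodule.coe_add, Pi.add_apply]; ring)
      (fun r φ L => by funext a b; simp only [Submodule.coe_smul, Pi.smul_apply, smul_eq_mul]; ring)
  let A : S →ₗ[ZMod p] S →ₗ[ZMod p] S := wedge.compr₂ (Lv.comp π)
  have hAself : ∀ φ, A φ φ = 0 := fun φ => by
    show Lv (π (wedge φ φ)) = 0
    rw [show wedge φ φ = 0 from funext fun a => funext fun b =>
      show φ.1 a * φ.1 b - φ.1 b * φ.1 a = 0 by ring, map_zero, map_zero]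
  set n := Module.finrank (ZMod p) S with hn
  have hn0 : 0 < n := by
    by_contra h
    have hS : ∀ χ : S, χ = 0 := fun χ => by
      haveI : Subsingleton S := Module.finrank_zero_iff.1 (by omega : Module.finrank (ZMod p) S = 0)
      exact Subsingleton.elim _ _
    have hD : ∀ w ∈ invFun G p, w = 0 := fun w hw => hinj w hw fun a _ b _ => by
      have hva : form w a v = 0 := by
        have := congrFun (congrArg Subtype.val (hS (Lv ⟨w, hw⟩))) a
        rw [form_swap hw v a, neg_eq_zero]
        exact this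
      exact congrFun (congrArg Subtype.val
        (hS ⟨fun g => form w a g, fun x y => form_mul_right hw a x y, hva⟩)) b
    obtain ⟨w, hw, hw0, -⟩ := exists_invFun hG (X := ⊥) bot_le (Ne.symm hab)
    exact hw0 (hD w hw)
  let e : S ≃ₗ[ZMod p] (Fin n → ZMod p) := (Module.finBasis (ZMod p) S).equivFun
  let MA : (Fin n → ZMod p) →ₗ[ZMod p] Matrix (Fin n) (Fin n) (ZMod p) :=
    LinearMap.toMatrix'.toLinearMap ∘ₗ e.conj.toLinearMap ∘ₗ A ∘ₗ e.symm.toLinearMap
  have hMA : ∀ x y, MA x *ᵥ y = e (A (e.symm x) (e.symm y)) := fun x y => by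
    show LinearMap.toMatrix' (e.conj (A (e.symm x))) *ᵥ y = _
    rw [LinearMap.toMatrix'_mulVec]
    rfl
  obtain ⟨x, hx0, hx⟩ := exists_no_fixed hn0 MA fun x => by rw [hMA, hAself, map_zero]
  set φ := e.symm x with hφ
  have hfix : ∀ L, A φ L = L → L = 0 := fun L hL => by
    have := hx (e L) (by rw [hMA, e.symm_apply_apply, ← hφ, hL])
    exact e.map_eq_zero_iff.1 this
  have hφ0 : φ ≠ 0 := fun h => hx0 (by rw [← e.apply_symm_apply x, ← hφ, h, map_zero])
  -- the subgroup
  let ψ : G → ZMod p := fun g => φ.1 g + χ₀ g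
  have hψ : ∀ a b, ψ (a * b) = ψ a + ψ b := fun a b => by
    show φ.1 (a * b) + χ₀ (a * b) = _
    rw [φ.2.1, hχ]; ring
  have hψv : ψ v = 1 := by show φ.1 v + χ₀ v = 1; rw [φ.2.2, hv, zero_add]
  have hvφ : ∀ k : ℕ, φ.1 (v ^ k)⁻¹ = 0 := fun k => by
    rw [add_inv' φ.2.1, add_pow' φ.2.1, φ.2.2, mul_zero, neg_zero]
  have hmem : ∀ a ∈ U, a * (v ^ (φ.1 a).val)⁻¹ ∈ (toHom ψ hψ).ker := fun a ha => mem_ker_toHom.2 (by
    rw [hψ, add_inv' hψ, add_pow' hψ, hψv, mul_one, ZMod.natCast_zmod_val]
    show φ.1 a + χ₀ a + -φ.1 a = 0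
    rw [(hU a).1 ha]; ring)
  obtain ⟨a₀, ha₀, haφ⟩ : ∃ a ∈ U, φ.1 a ≠ 0 := by
    by_contra h
    push Not at h
    refine hφ0 (Subtype.ext (funext fun g => ?_))
    have := h _ (split hχ hU hv g)
    rw [φ.2.1, hvφ, add_zero] at this
    exact this
  refine ⟨(toHom ψ hψ).ker, inferInstance, index_ker_toHom (by rw [hψv]; exact one_ne_zero),
    ⟨_, hmem a₀ ha₀, fun h => haφ ?_⟩, commutator_eq_of_form hG _ fun w hw hwM => ?_⟩
  · have h1 := (hU _).1 h
    rw [hχ, add_inv' hχ, add_pow' hχ, hv, mul_one, ZMod.natCast_zmod_val, (hU a₀).1 ha₀, zero_add,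
      neg_eq_zero] at h1
    exact h1
  · have hT : wedge φ (Lv ⟨w, hw⟩) = T ⟨w, hw⟩ := by
      funext a b
      show φ.1 a * form w v b - φ.1 b * form w v a = form w a b
      have h := hwM _ (hmem a a.2) _ (hmem b b.2)
      rw [form_shift hw, ZMod.natCast_zmod_val, ZMod.natCast_zmod_val, form_swap hw v (a : G)] at h
      linear_combination -h
    have hL : Lv ⟨w, hw⟩ = 0 := hfix _ (by
      show Lv (π (wedge φ (Lv ⟨w, hw⟩))) = _
      rw [hT]
      exact congrArg Lv (LinearMap.congr_fun hπ ⟨w, hw⟩))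
    rw [hL, map_zero] at hT
    exact congrArg Subtype.val (LinearMap.ker_eq_bot'.1 hTinj ⟨w, hw⟩ hT.symm)

end Setting

/-- Adjoining one element to a normal subgroup adds at most its class to the derived group. -/
theorem card_commutator_le [Finite G] (M : Subgroup G) [M.Normal] {u : G} (hMu : M ⊔ zpowers u = ⊤) :
    Nat.card (commutator G) ≤ Nat.card ↥⁅M, M⁆ * (Subgroup.centralizer ({u} : Set G)).index := by
  classical
  let N := ⁅M, M⁆
  let π := QuotientGroup.mk' N
  have hMn : (M.map π).Normal := Subgroup.Normal.map inferInstance π (QuotientGroup.mk'_surjective N)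
  have hcomm : ∀ a ∈ M.map π, ∀ b ∈ M.map π, a * b = b * a := by
    rintro _ ⟨a, ha, rfl⟩ _ ⟨b, hb, rfl⟩
    refine commutatorElement_eq_one_iff_mul_comm.1 ?_
    rw [← map_commutatorElement]
    exact (QuotientGroup.eq_one_iff _).2 (Subgroup.commutator_mem_commutator ha hb)
  let f : ↥(M.map π) →* G ⧸ N := MonoidHom.mk' (fun m => ⁅(m : G ⧸ N), π u⁆) fun a b => by
    show ⁅((a * b : ↥(M.map π)) : G ⧸ N), π u⁆ = ⁅(a : G ⧸ N), π u⁆ * ⁅(b : G ⧸ N), π u⁆
    have hb : ⁅(b : G ⧸ N), π u⁆ ∈ M.map π := by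
      rw [commutatorElement_def, mul_assoc (b : G ⧸ N), mul_assoc (b : G ⧸ N)]
      exact mul_mem b.2 (hMn.conj_mem _ (inv_mem b.2) (π u))
    have ha : ⁅(a : G ⧸ N), π u⁆ ∈ M.map π := by
      rw [commutatorElement_def, mul_assoc (a : G ⧸ N), mul_assoc (a : G ⧸ N)]
      exact mul_mem a.2 (hMn.conj_mem _ (inv_mem a.2) (π u))
    have key : ⁅((a * b : ↥(M.map π)) : G ⧸ N), π u⁆ =
        (a : G ⧸ N) * ⁅(b : G ⧸ N), π u⁆ * (a : G ⧸ N)⁻¹ * ⁅(a : G ⧸ N), π u⁆ := by
      rw [Subgroup.coe_mul]; simp only [commutatorElement_def]; group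
    rw [key, hcomm _ a.2 _ hb, mul_inv_cancel_right, hcomm _ hb _ ha]
  have hfM : f.range ≤ M.map π := by
    rintro _ ⟨m, rfl⟩
    show ⁅(m : G ⧸ N), π u⁆ ∈ M.map π
    rw [commutatorElement_def, mul_assoc (m : G ⧸ N), mul_assoc (m : G ⧸ N)]
    exact mul_mem m.2 (hMn.conj_mem _ (inv_mem m.2) (π u))
  have htop : (⊤ : Subgroup (G ⧸ N)) = M.map π ⊔ zpowers (π u) := by
    rw [← MonoidHom.map_zpowers, ← Subgroup.map_sup, hMu,
      Subgroup.map_top_of_surjective _ (QuotientGroup.mk'_surjective N)]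
  have hRn : f.range.Normal := by
    rw [← Subgroup.normalizer_eq_top_iff, eq_top_iff, htop, sup_le_iff]
    constructor
    · intro m hm
      refine Subgroup.mem_normalizer_iff.2 fun r => ⟨fun hr => ?_, fun hr => ?_⟩
      · rwa [hcomm m hm r (hfM hr), mul_inv_cancel_right]
      · have h' : m⁻¹ * (m * r * m⁻¹) * m = m * r * m⁻¹ := by
          rw [hcomm _ (inv_mem hm) _ (hfM hr), inv_mul_cancel_right]
        rwa [← h', show m⁻¹ * (m * r * m⁻¹) * m = r by group] at hr
    · rw [Subgroup.zpowers_le]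
      refine Subgroup.mem_normalizer_fintype fun r hr => ?_
      obtain ⟨m, rfl⟩ := hr
      refine ⟨⟨π u * m * (π u)⁻¹, hMn.conj_mem _ m.2 _⟩, ?_⟩
      show ⁅π u * (m : G ⧸ N) * (π u)⁻¹, π u⁆ = π u * ⁅(m : G ⧸ N), π u⁆ * (π u)⁻¹
      simp only [commutatorElement_def]; group
  have hle : commutator (G ⧸ N) ≤ f.range := by
    haveI := hRn
    refine (Subgroup.Normal.quotient_commutative_iff_commutator_le (N := f.range)).1
      ⟨⟨fun a b => ?_⟩⟩
    let ρ := QuotientGroup.mk' f.range
    have hall : ∀ x : (G ⧸ N) ⧸ f.range, x ∈ Subgroup.center _ := by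
      have hc : (⊤ : Subgroup (G ⧸ N)) ≤ (Subgroup.center ((G ⧸ N) ⧸ f.range)).comap ρ := by
        rw [htop, sup_le_iff]
        have hmu : ∀ m ∈ M.map π, Commute (ρ m) (ρ (π u)) := fun m hm =>
          commutatorElement_eq_one_iff_mul_comm.1 (by
            rw [← map_commutatorElement]
            exact (QuotientGroup.eq_one_iff _).2 ⟨⟨m, hm⟩, rfl⟩)
        have hgen : ∀ (a : (G ⧸ N) ⧸ f.range), (∀ m ∈ M.map π, Commute a (ρ m)) →
            Commute a (ρ (π u)) → a ∈ Subgroup.center _ := fun a h1 h2 => by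
          have hC : (⊤ : Subgroup (G ⧸ N)) ≤ (Subgroup.centralizer {a}).comap ρ := by
            rw [htop, sup_le_iff, Subgroup.zpowers_le]
            exact ⟨fun m hm => Subgroup.mem_centralizer_singleton_iff.2 (h1 m hm).symm,
              Subgroup.mem_centralizer_singleton_iff.2 h2.symm⟩
          refine Subgroup.mem_center_iff.2 fun y => ?_
          obtain ⟨y, rfl⟩ := QuotientGroup.mk'_surjective f.range y
          exact Subgroup.mem_centralizer_singleton_iff.1 (hC (Subgroup.mem_top y))
        constructor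
        · exact fun m hm => hgen _ (fun m' hm' => (Commute.map (hcomm m hm m' hm') ρ)) (hmu m hm)
        · rw [Subgroup.zpowers_le]
          exact hgen _ (fun m hm => (hmu m hm).symm) (Commute.refl _)
      intro x
      obtain ⟨x, rfl⟩ := QuotientGroup.mk'_surjective f.range x
      exact hc (Subgroup.mem_top x)
    exact Subgroup.mem_center_iff.1 (hall b) a
  have hcardR : Nat.card f.range ≤ (Subgroup.centralizer ({u} : Set G)).index := by
    refine le_trans ?_ (Nat.le_of_eq (Subgroup.index_eq_card _).symm)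
    let Φ : G ⧸ Subgroup.centralizer ({u} : Set G) → G ⧸ N :=
      Quotient.lift (fun g => π (g * u * g⁻¹ * u⁻¹)) fun a b hab => by
        have h := QuotientGroup.leftRel_apply.1 hab
        have h' : (a⁻¹ * b) * u = u * (a⁻¹ * b) := Subgroup.mem_centralizer_singleton_iff.1 h
        refine congrArg π ?_
        congr 1
        calc a * u * a⁻¹ = a * (u * (a⁻¹ * b)) * b⁻¹ := by group
          _ = a * ((a⁻¹ * b) * u) * b⁻¹ := by rw [h']
          _ = b * u * b⁻¹ := by group
    have hsub : (f.range : Set (G ⧸ N)) ⊆ Set.range Φ := by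
      rintro _ ⟨⟨_, m, hm, rfl⟩, rfl⟩
      exact ⟨QuotientGroup.mk m, by
        show π (m * u * m⁻¹ * u⁻¹) = ⁅π m, π u⁆
        rw [commutatorElement_def]; simp only [map_mul, map_inv]⟩
    calc Nat.card f.range ≤ Nat.card (Set.range Φ) := Nat.card_mono (Set.toFinite _) hsub
      _ ≤ Nat.card (G ⧸ Subgroup.centralizer ({u} : Set G)) := Finite.card_range_le Φ
  have hcom : commutator G ≤ f.range.comap π := by
    rw [← Subgroup.map_le_iff_le_comap, _root_.commutator_def, Subgroup.map_commutator,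
      Subgroup.map_top_of_surjective _ (QuotientGroup.mk'_surjective N), ← _root_.commutator_def]
    exact hle
  calc Nat.card (commutator G) ≤ Nat.card (f.range.comap π) := Subgroup.card_le_of_le hcom
    _ = Nat.card N * Nat.card f.range := by
      have h1 := Subgroup.card_mul_index (f.range.comap π)
      have h2 := Subgroup.card_mul_index f.range
      have h3 := Subgroup.card_mul_index N
      rw [Subgroup.index_comap_of_surjective _ (QuotientGroup.mk'_surjective N)] at h1
      rw [← Subgroup.index_eq_card N] at h2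
      refine Nat.eq_of_mul_eq_mul_right (Nat.pos_of_ne_zero (Subgroup.index_ne_zero_of_finite (H := f.range))) ?_
      rw [h1, mul_assoc, h2, h3]
    _ ≤ _ := Nat.mul_le_mul_left _ hcardR

theorem triangle_step {b : ℕ} (hb : 1 ≤ b) : (b - 1) * (b - 1 + 1) / 2 + b = b * (b + 1) / 2 := by
  obtain ⟨c, rfl⟩ : ∃ c, b = c + 1 := ⟨b - 1, by omega⟩
  rw [Nat.add_sub_cancel, show (c + 1) * (c + 1 + 1) = c * (c + 1) + 2 * (c + 1) by ring,
    Nat.add_mul_div_left _ _ (by norm_num : 0 < 2)]

universe u

/-- The bound, for groups whose elements outside a proper subgroup have small classes. -/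
theorem card_commutator_bound : ∀ (n : ℕ) (G : Type u) [Group G] [Finite G], Nat.card G ≤ n →
    IsPGroup p G → ∀ (b : ℕ) (U : Subgroup G), U ≠ ⊤ →
    (∀ x ∉ U, (Subgroup.centralizer ({x} : Set G)).index ≤ p ^ b) →
    Nat.card (commutator G) ≤ p ^ (b * (b + 1) / 2) := by
  intro n
  induction n with
  | zero => intro G _ _ hn; exact absurd hn (Nat.not_le.2 Nat.card_pos)
  | succ n ih =>
    intro G _ _ hn hG b U₀ hU₀ hb
    by_cases hab : commutator G = ⊥
    · rw [hab, Subgroup.card_bot]; exact Nat.one_le_pow _ _ hp.out.pos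
    obtain ⟨U, hUc, hle⟩ := (eq_top_or_exists_le_coatom U₀).resolve_left hU₀
    replace hb : ∀ x ∉ U, (Subgroup.centralizer ({x} : Set G)).index ≤ p ^ b := fun x hx =>
      hb x fun h => hx (hle h)
    obtain ⟨hUn, hUi⟩ := CfsgLib.PGroupBasic.coatom_normal_index hG hUc
    haveI := hUn
    have hQ : Nat.card (G ⧸ U) = p := by rw [← Subgroup.index_eq_card, hUi]
    let e : G ⧸ U ≃* Multiplicative (ZMod p) :=
      mulEquivOfPrimeCardEq hQ ((Nat.card_congr Multiplicative.toAdd).trans (Nat.card_zmod p))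
    obtain ⟨v, hv⟩ := QuotientGroup.mk'_surjective U (e.symm (Multiplicative.ofAdd 1))
    let χ₀ : G → ZMod p := fun g => Multiplicative.toAdd (e (QuotientGroup.mk' U g))
    have hχ : ∀ x y, χ₀ (x * y) = χ₀ x + χ₀ y := fun x y => by
      show Multiplicative.toAdd _ = _
      rw [map_mul, map_mul]; rfl
    have hU : ∀ g, g ∈ U ↔ χ₀ g = 0 := fun g => by
      rw [← QuotientGroup.eq_one_iff g, ← e.map_eq_one_iff]
      exact toAdd_eq_zero.symm
    have hv1 : χ₀ v = 1 := by
      show Multiplicative.toAdd (e _) = 1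
      rw [hv, e.apply_symm_apply]; rfl
    have hvU : v ∉ U := fun h => one_ne_zero (hv1.symm.trans ((hU v).1 h))
    have hsmall : ∀ M : Subgroup G, M.index = p → Nat.card M ≤ n := fun M hMi => by
      have h1 := M.card_mul_index
      rw [hMi] at h1
      have h2 : 2 ≤ p := hp.out.two_le
      have h3 : 0 < Nat.card M := Nat.card_pos
      nlinarith
    have hrel : ∀ (M : Subgroup G) (x : M),
        (Subgroup.centralizer ({x} : Set M)).index =
          (Subgroup.centralizer ({(x : G)} : Set G)).relIndex M := fun M x => by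
      unfold Subgroup.relIndex
      congr 1
      ext y
      rw [Subgroup.mem_subgroupOf, Subgroup.mem_centralizer_singleton_iff,
        Subgroup.mem_centralizer_singleton_iff]
      exact Subtype.ext_iff
    by_cases hcase : ∃ w ∈ invFun G p, w ≠ 0 ∧ ∀ a ∈ U, ∀ c ∈ U, form w a c = 0
    · obtain ⟨w, hw, hw0, hwU⟩ := hcase
      obtain ⟨M, hMn, hMi, hvM, hcent⟩ := case_central hχ hU hv1 hw hw0 hwU
      haveI := hMn
      have hidx : ∀ x : M, (x : G) ∉ U →
          (Subgroup.centralizer ({x} : Set M)).index * p ≤ p ^ b := fun x hx => by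
        have h1 := Subgroup.relIndex_mul_index (hcent x x.2 hx)
        rw [hMi] at h1
        rw [hrel, h1]
        exact hb x hx
      have hb1 : 1 ≤ b := by
        by_contra h
        have h1 := hidx ⟨v, hvM⟩ hvU
        have h2 := Nat.pos_of_ne_zero
          (Subgroup.index_ne_zero_of_finite (H := Subgroup.centralizer ({⟨v, hvM⟩} : Set M)))
        rw [show b = 0 by omega, pow_zero] at h1
        have := hp.out.two_le
        nlinarith
      have hM := ih M (hsmall M hMi) (hG.to_subgroup M) (b - 1) (U.subgroupOf M)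
        (fun h => hvU ((Subgroup.subgroupOf_eq_top.1 h) hvM)) fun x hx => by
          have h1 := hidx x hx
          rw [show b = b - 1 + 1 by omega, pow_succ] at h1
          exact Nat.le_of_mul_le_mul_right h1 hp.out.pos
      rw [← Subgroup.card_map_of_injective (f := M.subtype) Subtype.val_injective,
        Subgroup.map_subtype_commutator] at hM
      obtain ⟨u, huM, huU⟩ : ∃ u, u ∉ M ∧ u ∉ U := by
        obtain ⟨g, hg⟩ : ∃ g, g ∉ M := by
          by_contra h
          push Not at h
          rw [(Subgroup.eq_top_iff' M).2 h, Subgroup.index_top] at hMi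
          exact hp.out.ne_one hMi.symm
        by_cases hgU : g ∈ U
        · exact ⟨g * v, fun h => hg ((mul_mem_cancel_right hvM).1 h),
            fun h => hvU ((mul_mem_cancel_left hgU).1 h)⟩
        · exact ⟨g, hg, hgU⟩
      have hMu : M ⊔ zpowers u = ⊤ := by
        have hd := Subgroup.index_dvd_of_le (le_sup_left : M ≤ M ⊔ zpowers u)
        rw [hMi] at hd
        rcases (Nat.dvd_prime hp.out).1 hd with h | h
        · exact Subgroup.index_eq_one.1 h
        · exfalso
          have h1 := Subgroup.relIndex_mul_index (le_sup_left : M ≤ M ⊔ zpowers u)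
          rw [hMi, h] at h1
          exact huM (Subgroup.relIndex_eq_one.1 ((Nat.mul_eq_right hp.out.ne_zero).1 h1)
            (le_sup_right (α := Subgroup G) (mem_zpowers u)))
      calc Nat.card (commutator G)
          ≤ Nat.card ↥⁅M, M⁆ * (Subgroup.centralizer ({u} : Set G)).index := card_commutator_le M hMu
        _ ≤ p ^ ((b - 1) * (b - 1 + 1) / 2) * p ^ b := Nat.mul_le_mul hM (hb u huU)
        _ = p ^ (b * (b + 1) / 2) := by rw [← pow_add, triangle_step hb1]
    · push Not at hcase
      obtain ⟨M, hMn, hMi, ⟨x₀, hxM, hxU⟩, hMeq⟩ := case_spanning hχ hU hv1 hG hab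
        fun w hw h => by
          by_contra hw0
          obtain ⟨a, ha, c, hc, hne⟩ := hcase w hw hw0
          exact hne (h a ha c hc)
      have hM := ih M (hsmall M hMi) (hG.to_subgroup M) b (U.subgroupOf M)
        (fun h => hxU ((Subgroup.subgroupOf_eq_top.1 h) hxM)) fun x hx => by
          rw [hrel]
          refine le_trans ?_ (hb x hx)
          refine (Subgroup.relIndex_le_of_le_right le_top ?_).trans_eq (Subgroup.relIndex_top_right _)
          rw [Subgroup.relIndex_top_right]
          exact Subgroup.index_ne_zero_of_finite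
      rwa [← Subgroup.card_map_of_injective (f := M.subtype) Subtype.val_injective,
        Subgroup.map_subtype_commutator, hMeq] at hM

end CfsgLib.Breadth
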